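import Groth.Agent.Curves2.H1Zero.Koszul
import Groth.Agent.Curves2.H1Zero.GenOps
import Groth.Agent.Curves2.CurveToolkit
import Groth.Agent.Cyc90.GenSec.Main

/-!
# The base point free pencil trick

For a base point free pencil `⟨x₀, x₁⟩` of `L`: `2 h⁰(Q ⊗ L) ≤ h⁰(Q ⊗ L ⊗ L) + h⁰(Q)`.
-/

set_option autoImplicit false
set_option linter.style.haveILetI false
set_option backward.isDefEq.respectTransparency.types false

universe u

open CategoryTheory CategoryTheory.Limits AlgebraicGeometry TopologicalSpace Opposite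

noncomputable section

namespace Groth.Agent.Curves2.Pencil

open Groth.Agent.Crv77 Groth.Agent.Var76.LineBundle Groth.Agent.Curves2.H1Zero
open Groth.Agent.Amp73 (tm)

variable {X : Scheme.{u}}

theorem exists_stalk_basis {L : X.Modules} (hL : PicF.IsInvertible L) (x : X) :
    ∃ ε : L.presheaf.stalk x, Function.Bijective fun c : X.presheaf.stalk x => c • ε := by
  obtain ⟨U, hxU, ⟨φ⟩⟩ := Mero90.isFinLocFreeOfRank_of_isInvertible hL x
  obtain ⟨e, he⟩ := Props58.LocFree.exists_stalkBasis_of_iso φ
  refine ⟨QC70.germM L U x hxU (e 0), ?_⟩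
  have h := he x hxU
  have h1 : (fun c : X.presheaf.stalk x => c • QC70.germM L U x hxU (e 0)) =
      Props58.LocFree.germComb e x hxU ∘ fun c _ => c := funext fun c => by
    simp [Props58.LocFree.germComb]
  rw [h1]
  exact h.comp ⟨fun a b hab => congrFun hab 0, fun f => ⟨f 0, funext fun i => by rw [Fin.fin_one_eq_zero i]⟩⟩

theorem tmRight_germ {G : X.Modules} (t : Γ(G, ⊤)) (N : X.Modules) (x : X) (m : N.presheaf.stalk x) :
    QC70.stalkMapM (tmRight t N) x m = tsL x N G (m ⊗ₜ QC70.germM G ⊤ x trivial t) := by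
  obtain ⟨U, hxU, m', rfl⟩ := QC70.germM_exist m
  rw [QC70.stalkMapM_germ, ← QC70.germM_res (le_top (a := U)) hxU t, tsL_germ]
  rfl

theorem tsL_bijective (x : X) (F M : X.Modules) : Function.Bijective (tsL x F M) :=
  KRR40.bijective_tensorStalk_fun x F M

/-- Tensoring with a stalkwise generator is bijective on stalks. -/
theorem bijective_tmRight {G : X.Modules} (t : Γ(G, ⊤)) (N : X.Modules) {x : X}
    (ht : Function.Bijective fun c : X.presheaf.stalk x => c • QC70.germM G ⊤ x trivial t) :
    Function.Bijective (QC70.stalkMapM (tmRight t N) x) := by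
  let e : X.presheaf.stalk x ≃ₗ[X.presheaf.stalk x] G.presheaf.stalk x :=
    LinearEquiv.ofBijective (LinearMap.toSpanSingleton _ _ (QC70.germM G ⊤ x trivial t)) ht
  have h : QC70.stalkMapM (tmRight t N) x =
      tsL x N G ∘ fun m => (TensorProduct.congr (LinearEquiv.refl _ _) e) ((TensorProduct.rid _ _).symm m) := by
    funext m
    rw [tmRight_germ]
    show _ = tsL x N G ((TensorProduct.congr (LinearEquiv.refl _ _) e) ((TensorProduct.rid _ _).symm m))
    congr 1
    simp [e]
  rw [h]
  exact (tsL_bijective x N G).comp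
    ((TensorProduct.congr (LinearEquiv.refl _ _) e).bijective.comp (TensorProduct.rid _ _).symm.bijective)

variable [IsIntegral X]

/-- Multiplication by a nonzero section is injective. -/
theorem mono_tmRight {L N : X.Modules} (hL : PicF.IsInvertible L) (hN : PicF.IsInvertible N)
    {t : Γ(L, ⊤)} (ht : t ≠ 0) : Mono (tmRight t N) := by
  have hinj : ∀ x : X, Function.Injective (QC70.stalkMapM (tmRight t N) x) := fun x => by
    obtain ⟨ε, hε⟩ := exists_stalk_basis hL x
    obtain ⟨δ, hδ⟩ := exists_stalk_basis hN x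
    obtain ⟨a, ha⟩ := hε.2 (QC70.germM L ⊤ x trivial t)
    have ha0 : a ≠ 0 := by
      rintro rfl
      have hz : QC70.germM L ⊤ x trivial t = 0 := ha.symm.trans (zero_smul _ _)
      have hm := (section_of_invertible hL (QC70.unitHom t) (by
        show (QC70.unitHom t).app ⊤ (QC70.toUnit 1) ≠ 0
        rw [QC70.unitHom_app_one]
        simpa [QC70.res] using ht)).1
      have h1 := QC70.injective_stalkMapM_of_mono (QC70.unitHom t) x
        (a₁ := QC70.germM (QC70.unitMod X) ⊤ x trivial (QC70.toUnit 1)) (a₂ := 0) (by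
          rw [QC70.stalkMapM_germ, QC70.unitHom_app_one]
          exact (by simpa [QC70.res] using hz : _ = (0 : L.presheaf.stalk x)).trans
            (map_zero (QC70.stalkLinear (QC70.unitHom t) x)).symm)
      exact one_ne_zero ((QC70.unitStalkEquiv x).injective (a₁ := 1) (a₂ := 0) (by
        rw [map_zero]
        exact (LinearMap.toSpanSingleton_apply_one _ _ _).trans h1))
    refine (injective_iff_map_eq_zero (QC70.stalkLinear (tmRight t N) x)).2 fun m hm => ?_
    change QC70.stalkMapM (tmRight t N) x m = 0 at hm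
    obtain ⟨b, rfl⟩ := hδ.2 m
    rw [tmRight_germ, ← ha] at hm
    have hm' : tsL x N L ((b * a) • (δ ⊗ₜ ε)) = 0 := by
      rw [← hm]
      congr 1
      simp only [← TensorProduct.smul_tmul', TensorProduct.tmul_smul, smul_smul, mul_comm]
    have h2 := (tsL_bijective x N L).1 (hm'.trans (map_zero _).symm)
    let e := TensorProduct.congr (LinearEquiv.ofBijective (LinearMap.toSpanSingleton _ _ δ) hδ)
      (LinearEquiv.ofBijective (LinearMap.toSpanSingleton _ _ ε) hε)
    have h3 : e ((b * a) ⊗ₜ[X.presheaf.stalk x] (1 : X.presheaf.stalk x)) = 0 := by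
      rw [← h2]
      simp [e, TensorProduct.smul_tmul']
    have h4 : b * a = 0 := by
      have := congrArg (TensorProduct.rid (X.presheaf.stalk x) (X.presheaf.stalk x))
        (e.injective (h3.trans (map_zero _).symm))
      simpa using this
    rcases mul_eq_zero.1 h4 with h | h
    · simp [h]
    · exact absurd h ha0
  refine Preadditive.mono_of_cancel_zero _ fun {P} g hg => eq_zero_of_stalkMapM g fun x e => hinj x ?_
  rw [← QC70.stalkMapM_comp, hg, QC70.stalkMapM_zero]
  exact (map_zero (QC70.stalkLinear (tmRight t N) x)).symm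

variable (k : Type u) [Field k] [X.Over (Spec (CommRingCat.of k))] [IsProper (X ↘ Spec (CommRingCat.of k))]

/-- The base point free pencil trick, as an inequality. -/
theorem two_mul_h0_le (hdim : topologicalKrullDim X ≤ 1) {L Q : X.Modules} (hL : PicF.IsInvertible L)
    (hgg : Curv2.IsGloballyGenerated L) (h2 : Module.finrank k (Coh.HH X L 0) = 2)
    (hQ : PicF.IsInvertible Q) :
    2 * Module.finrank k (Coh.HH X (CohB1.tensorMod Q L) 0) ≤
      Module.finrank k (Coh.HH X (CohB1.tensorMod (CohB1.tensorMod Q L) L) 0) +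
        Module.finrank k (Coh.HH X Q 0) := by
  haveI := isNoetherian_of_proper k X
  have hC := curveCoh_of_proper k X hdim
  set N := CohB1.tensorMod Q L
  have hN : PicF.IsInvertible N := EGA73.isInvertible_tensorMod hQ hL
  haveI := hC.finite L (isCoh_of_isInvertible hL) 0
  haveI := hC.finite Q (isCoh_of_isInvertible hQ) 0
  haveI := hC.finite N (isCoh_of_isInvertible hN) 0
  haveI := hC.finite _ (isCoh_of_isInvertible (EGA73.isInvertible_tensorMod hN hL)) 0
  let b := Module.finBasisOfFinrankEq k _ h2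
  let s : Γ(L, ⊤) := sec L (b 0)
  let t : Γ(L, ⊤) := sec L (b 1)
  have hs0 : s ≠ 0 := fun h => b.ne_zero 0 ((sec L).injective (h.trans (map_zero _).symm))
  -- the two sections span every stalk
  have hspan : ∀ x : X, Submodule.span (X.presheaf.stalk x)
      (Set.range fun i => QC70.germM L ⊤ x trivial (sec L (b i))) = ⊤ := fun x => by
    rw [eq_top_iff, ← Cyc90.GenSec.span_germ_eq_top hgg x, Submodule.span_le]
    rintro _ ⟨v, rfl⟩
    obtain ⟨w, rfl⟩ : ∃ w, sec L w = v := (sec L).surjective v
    show QC70.germM L ⊤ x trivial (sec L w) ∈ _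
    conv => arg 2; rw [← b.sum_repr w, map_sum]
    rw [Props58.LocFree.germM_sum]
    refine Submodule.sum_mem _ fun i _ => ?_
    rw [sec_smul, QC70.germM_smul]
    exact Submodule.smul_mem _ _ (Submodule.subset_span ⟨i, rfl⟩)
  have hgen : ∀ x : X, Function.Bijective (fun c : X.presheaf.stalk x => c • QC70.germM L ⊤ x trivial s) ∨
      Function.Bijective (fun c : X.presheaf.stalk x => c • QC70.germM L ⊤ x trivial t) := fun x => by
    obtain ⟨W, a, hxW, ha⟩ := Cyc90.GenSec.exists_frame_of_span
      (Mero90.isFinLocFreeOfRank_of_isInvertible hL) (fun i : ULift.{u} (Fin 2) => sec L (b i.down)) (x := x) (by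
        rw [← hspan x]
        congr 1
        ext z
        exact ⟨fun ⟨i, hi⟩ => ⟨i.down, hi⟩, fun ⟨i, hi⟩ => ⟨⟨i⟩, hi⟩⟩)
    have h := (ha x hxW).comp (g := Props58.LocFree.germComb _ x hxW) (f := fun c : X.presheaf.stalk x => fun _ : Fin 1 => c)
      ⟨fun p q hpq => congrFun hpq 0, fun f => ⟨f 0, funext fun i => by rw [Fin.fin_one_eq_zero i]⟩⟩
    have h' : (Props58.LocFree.germComb (fun i => res L (le_top : W.1 ≤ ⊤) (sec L (b (a i).down))) x hxW ∘
        fun c : X.presheaf.stalk x => fun _ : Fin 1 => c) =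
        fun c => c • QC70.germM L ⊤ x trivial (sec L (b (a 0).down)) := funext fun c => by
      simp [Props58.LocFree.germComb, QC70.germM_res]
    rw [h'] at h
    generalize (a 0).down = i at h
    fin_cases i
    · exact Or.inl h
    · exact Or.inr h
  haveI hmQ := mono_tmRight hL hQ (N := Q) hs0
  haveI hmN := mono_tmRight hL hN (N := N) hs0
  let T := ShortComplex.mk (tmRight s Q) (cokernel.π (tmRight s Q)) (cokernel.condition _)
  have hT : T.ShortExact :=
    { exact := ShortComplex.exact_of_g_is_cokernel _ (cokernelIsCokernel _)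
      mono_f := hmQ
      epi_g := inferInstanceAs (Epi (cokernel.π _)) }
  let Φ : Coh.HH X N 0 × Coh.HH X N 0 →ₗ[k] Coh.HH X (CohB1.tensorMod N L) 0 :=
    (hmap k (tmRight s N) 0).coprod (hmap k (tmRight t N) 0)
  have hkey : ∀ p : Coh.HH X N 0 × Coh.HH X N 0, Φ p = 0 →
      ∃ w, hmap k (tmRight s Q) 0 w = p.2 := fun ⟨u, v⟩ huv => by
    have hrel : (tmRight s N).app ⊤ (sec N u) + (tmRight t N).app ⊤ (sec N v) = 0 := by
      rw [← sec_hmap k, ← sec_hmap k, ← map_add]
      exact (congrArg (sec _) huv).trans (map_zero _)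
    suffices hz : (cokernel.π (tmRight s Q)).app ⊤ (sec N v) = 0 by
      exact ((exact_f_g k hT 0) v).1 ((sec _).injective ((sec_hmap k _ v).trans (hz.trans (map_zero _).symm)))
    refine TopCat.Presheaf.section_ext ⟨(cokernel (tmRight s Q)).presheaf, (cokernel (tmRight s Q)).isSheaf⟩ ⊤ _ _
      fun x hx => ?_
    show QC70.germM (cokernel (tmRight s Q)) ⊤ x hx _ = QC70.germM (cokernel (tmRight s Q)) ⊤ x hx 0
    rw [QC70.germM_zero, ← QC70.stalkMapM_germ]
    suffices hr : ∃ z, QC70.stalkMapM (tmRight s Q) x z = QC70.germM N ⊤ x hx (sec N v) by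
      obtain ⟨z, hz⟩ := hr
      rw [← hz, ← QC70.stalkMapM_comp, cokernel.condition, QC70.stalkMapM_zero]
    rcases hgen x with hb | hb
    · exact (bijective_tmRight s Q hb).2 _
    · obtain ⟨z, hz⟩ := (bijective_tmRight t Q hb).2 (QC70.germM N ⊤ x hx (sec N u))
      refine ⟨-z, (bijective_tmRight t N hb).1 ?_⟩
      have h1 : QC70.stalkMapM (tmRight s N) x (QC70.germM N ⊤ x hx (sec N u)) +
          QC70.stalkMapM (tmRight t N) x (QC70.germM N ⊤ x hx (sec N v)) = 0 := by
        rw [QC70.stalkMapM_germ, QC70.stalkMapM_germ, ← QC70.germM_add, hrel, QC70.germM_zero]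
      rw [← hz, ← QC70.stalkMapM_comp, ← comp_tmRight_comm hL, QC70.stalkMapM_comp] at h1
      show QC70.stalkLinear (tmRight t N) x (QC70.stalkLinear (tmRight s Q) x (-z)) = _
      rw [map_neg, map_neg]
      exact neg_eq_of_add_eq_zero_right h1
  have hker : Module.finrank k (LinearMap.ker Φ) ≤ Module.finrank k (Coh.HH X Q 0) := by
    let π := (LinearMap.snd k (Coh.HH X N 0) (Coh.HH X N 0)).comp (LinearMap.ker Φ).subtype
    have hπ : Function.Injective π := (injective_iff_map_eq_zero π).2 fun ⟨⟨u, v⟩, huv⟩ hv => by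
      obtain rfl : v = 0 := hv
      have hu : hmap k (tmRight s N) 0 u = 0 := by simpa [Φ] using huv
      have hinj : Function.Injective ((tmRight s N).app ⊤) := fun a c hac => by
        refine TopCat.Presheaf.section_ext ⟨N.presheaf, N.isSheaf⟩ ⊤ _ _ fun x hx => ?_
        refine QC70.injective_stalkMapM_of_mono (tmRight s N) x (a₁ := QC70.germM N ⊤ x hx a) (a₂ := QC70.germM N ⊤ x hx c) ?_
        rw [QC70.stalkMapM_germ, QC70.stalkMapM_germ, hac]
      have : u = 0 := (sec N).injective (hinj (by
        rw [← sec_hmap k, hu, map_zero]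
        rw [map_zero, map_zero]))
      exact Subtype.ext (Prod.ext this rfl)
    have hrange : LinearMap.range π ≤ LinearMap.range (hmap k (tmRight s Q) 0) := by
      rintro _ ⟨⟨p, hp⟩, rfl⟩
      exact hkey p hp
    exact (LinearMap.finrank_range_of_inj hπ).ge.trans
      ((Submodule.finrank_mono hrange).trans (LinearMap.finrank_range_le _))
  have hn := Φ.finrank_range_add_finrank_ker
  rw [Module.finrank_prod] at hn
  have := Submodule.finrank_le (LinearMap.range Φ)
  omega

end Groth.Agent.Curves2.Pencil
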