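import Groth.Agent.Curves2.Pencil.BpfTrick
import Groth.Agent.Curves2.Clifford
import Groth.Agent.Curves2.PointTwists
import Groth.Agent.Crv77.PointTwist
import Groth.Agent.FlatMor68.PullbackDescent

/-!
# Multiplication by sections: linearity, finite cokernels, quotients
-/

set_option autoImplicit false
set_option linter.style.haveILetI false
set_option backward.isDefEq.respectTransparency.types false

universe u

open CategoryTheory CategoryTheory.Limits AlgebraicGeometry TopologicalSpace Opposite CategoryTheory.Abelian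

noncomputable section

namespace Groth.Agent.Curves2.Pencil

open Groth.Agent.Crv77 Groth.Agent.Var76.LineBundle Groth.Agent.Curves2.H1Zero
open Groth.Agent.Amp73 (tm)

variable {X : Scheme.{u}}

/-- A frame generates the stalks freely. -/
theorem bijective_germ_of_isFrame {L : X.Modules} {U : X.Opens} {e : Γ(L, U)} (he : IsFrame L U e)
    {x : X} (hx : x ∈ U) :
    Function.Bijective fun c : X.presheaf.stalk x => c • QC70.germM L U x hx e := by
  refine ⟨(injective_iff_map_eq_zero (LinearMap.toSpanSingleton (X.presheaf.stalk x) _ (QC70.germM L U x hx e))).2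
    fun c hc => ?_, fun m => ?_⟩
  · obtain ⟨W, hxW, a, rfl⟩ := TopCat.Presheaf.exists_germ_eq X.presheaf c
    have hxV : x ∈ W ⊓ U := ⟨hxW, hx⟩
    have h0 : QC70.germM L (W ⊓ U) x hxV (resF (inf_le_left : W ⊓ U ≤ W) a • res L (inf_le_right : W ⊓ U ≤ U) e) =
        QC70.germM L (W ⊓ U) x hxV 0 := by
      rw [QC70.germM_smul, QC70.germM_res, QC70.germM_zero]
      refine Eq.trans ?_ hc
      exact congrArg (· • QC70.germM L U x hx e) (QC70.germ_resO (inf_le_left : W ⊓ U ≤ W) hxV a)
    obtain ⟨V, hxV', i, j, hij⟩ := TopCat.Presheaf.germ_eq L.presheaf x hxV hxV _ _ h0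
    have h1 : resF (i.le.trans inf_le_left) a • res L (i.le.trans inf_le_right) e = 0 := by
      have h2 : res L i.le (resF (inf_le_left : W ⊓ U ≤ W) a • res L (inf_le_right : W ⊓ U ≤ U) e) = res L j.le 0 := hij
      rw [res_smul, res_res, show res L j.le (0 : Γ(L, W ⊓ U)) = 0 from map_zero _] at h2
      refine Eq.trans ?_ h2
      exact congrArg (· • res L (i.le.trans inf_le_right) e) (QC70.resO_resO inf_le_left i.le a).symm
    have h3 : resF (i.le.trans inf_le_left) a = 0 := (he V _).1 (h1.trans (zero_smul _ _).symm)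
    rw [← QC70.germ_resO (i.le.trans inf_le_left) hxV' a]
    exact (congrArg (X.presheaf.germ V x hxV') h3).trans (map_zero _)
  · obtain ⟨W, hxW, m', rfl⟩ := QC70.germM_exist m
    have hxV : x ∈ W ⊓ U := ⟨hxW, hx⟩
    obtain ⟨a, ha⟩ := (he (W ⊓ U) inf_le_right).2 (res L inf_le_left m')
    refine ⟨X.presheaf.germ (W ⊓ U) x hxV a, ?_⟩
    show _ • _ = _
    rw [← QC70.germM_res (inf_le_right : W ⊓ U ≤ U) hxV e, ← QC70.germM_smul,
      ← QC70.germM_res (inf_le_left : W ⊓ U ≤ W) hxV m']
    exact congrArg _ ha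

theorem bijective_germ_of_mem_genLocus {L : X.Modules} (t : Γ(L, ⊤)) {x : X}
    (h : x ∈ CohB1.genLocus L (Var76.Frames.ofSection L t)) :
    Function.Bijective fun c : X.presheaf.stalk x => c • QC70.germM L ⊤ x trivial t := by
  obtain ⟨U, hxU, hU⟩ := Amp73.mem_genLocus_iff.1 h
  rw [Var76.Frames.val_ofSection] at hU
  have := bijective_germ_of_isFrame hU hxU
  rwa [show QC70.germM L U x hxU (res L le_top t) = QC70.germM L ⊤ x trivial t from
    QC70.germM_res le_top hxU t] at this

/-- The map induced on cokernels by two commuting multiplications. -/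
def cokMap {L : X.Modules} (hL : PicF.IsInvertible L) (s u : Γ(L, ⊤)) (N : X.Modules) :
    cokernel (tmRight s N) ⟶ cokernel (tmRight s (CohB1.tensorMod N L)) :=
  cokernel.map _ _ (tmRight u N) (tmRight u (CohB1.tensorMod N L)) (comp_tmRight_comm hL s u)

theorem π_cokMap {L : X.Modules} (hL : PicF.IsInvertible L) (s u : Γ(L, ⊤)) (N : X.Modules) :
    cokernel.π (tmRight s N) ≫ cokMap hL s u N = tmRight u (CohB1.tensorMod N L) ≫ cokernel.π _ :=
  cokernel.π_desc _ _ _

theorem cokMap_comm {L : X.Modules} (hL : PicF.IsInvertible L) (s t u : Γ(L, ⊤)) (N : X.Modules) :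
    cokMap hL s t N ≫ cokMap hL s u (CohB1.tensorMod N L) =
      cokMap hL s u N ≫ cokMap hL s t (CohB1.tensorMod N L) := by
  rw [← cancel_epi (cokernel.π (tmRight s N)), ← Category.assoc, ← Category.assoc, π_cokMap, π_cokMap,
    Category.assoc, Category.assoc, π_cokMap, π_cokMap, ← Category.assoc, ← Category.assoc,
    comp_tmRight_comm hL t u]

/-- Where `s` or `t` generates, `t` identifies the quotients by `s`. -/
theorem isIso_cokMap {L : X.Modules} (hL : PicF.IsInvertible L) (s t : Γ(L, ⊤))
    (hgen : ∀ x : X, Function.Bijective (fun c : X.presheaf.stalk x => c • QC70.germM L ⊤ x trivial s) ∨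
      Function.Bijective (fun c : X.presheaf.stalk x => c • QC70.germM L ⊤ x trivial t))
    (N : X.Modules) : IsIso (cokMap hL s t N) := by
  refine (FlatMor68.PullbackDescent.isIso_iff _).2 fun x => ?_
  have hsub : ∀ M : X.Modules, Function.Bijective (fun c : X.presheaf.stalk x => c • QC70.germM L ⊤ x trivial s) →
      Subsingleton ((cokernel (tmRight s M)).presheaf.stalk x) := fun M hb =>
    QC70.subsingleton_stalk_cokernel _ x (bijective_tmRight s M hb).2
  rcases hgen x with hb | hb
  · haveI := hsub N hb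
    haveI := hsub (CohB1.tensorMod N L) hb
    exact ⟨fun a b _ => Subsingleton.elim a b, fun c => ⟨0, Subsingleton.elim _ _⟩⟩
  refine ⟨(injective_iff_map_eq_zero (QC70.stalkLinear (cokMap hL s t N) x)).2 fun c hc => ?_, fun c => ?_⟩
  · obtain ⟨m, rfl⟩ := QC70.surjective_stalkMapM_of_epi (cokernel.π (tmRight s N)) x c
    change QC70.stalkMapM (cokMap hL s t N) x (QC70.stalkMapM (cokernel.π _) x m) = 0 at hc
    rw [← QC70.stalkMapM_comp, π_cokMap, QC70.stalkMapM_comp] at hc
    have hseq : (ShortComplex.mk (Abelian.image.ι (tmRight s (CohB1.tensorMod N L)))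
        (cokernel.π (tmRight s (CohB1.tensorMod N L))) (kernel.condition _)).Exact :=
      ShortComplex.exact_of_f_is_kernel _ (kernelIsKernel _)
    haveI : Mono (ShortComplex.mk (Abelian.image.ι (tmRight s (CohB1.tensorMod N L)))
        (cokernel.π (tmRight s (CohB1.tensorMod N L))) (kernel.condition _)).f :=
      inferInstanceAs (Mono (kernel.ι _))
    obtain ⟨w, hw⟩ := QC70.stalkMapM_exact _ hseq x _ hc
    obtain ⟨v, rfl⟩ := QC70.surjective_stalkMapM_of_epi (Abelian.factorThruImage _) x w
    change QC70.stalkMapM (Abelian.image.ι _) x (QC70.stalkMapM (Abelian.factorThruImage _) x v) = _ at hw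
    rw [← QC70.stalkMapM_comp, Abelian.image.fac] at hw
    obtain ⟨v', rfl⟩ := (bijective_tmRight t N hb).2 v
    rw [← QC70.stalkMapM_comp, ← comp_tmRight_comm hL, QC70.stalkMapM_comp] at hw
    rw [← (bijective_tmRight t (CohB1.tensorMod N L) hb).1 hw, ← QC70.stalkMapM_comp, cokernel.condition,
      QC70.stalkMapM_zero]
  · obtain ⟨m, rfl⟩ := QC70.surjective_stalkMapM_of_epi (cokernel.π (tmRight s (CohB1.tensorMod N L))) x c
    obtain ⟨m', rfl⟩ := (bijective_tmRight t (CohB1.tensorMod N L) hb).2 m
    refine ⟨QC70.stalkMapM (cokernel.π _) x m', ?_⟩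
    rw [← QC70.stalkMapM_comp, ← QC70.stalkMapM_comp, π_cokMap]

variable (k : Type u) [Field k] [X.Over (Spec (CommRingCat.of k))]

theorem toAb_tmRight_add {L : X.Modules} (a b : Γ(L, ⊤)) (N : X.Modules) :
    (toAbF X).map (tmRight (a + b) N) = (toAbF X).map (tmRight a N) + (toAbF X).map (tmRight b N) := by
  ext U y
  refine Eq.trans ?_ (show tm N L y (res L (le_top (a := U.unop)) a) + tm N L y (res L le_top b) = _ from rfl)
  show tm N L y (res L (le_top (a := U.unop)) (a + b)) = _
  rw [Amp73.res_add, Amp73.tm_add_right]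

theorem toAb_tmRight_smul {L : X.Modules} (c : k) (a : Coh.HH X L 0) (N : X.Modules) :
    (toAbF X).map (tmRight (sec L (c • a)) N) = (toAbF X).map (tmRight (sec L a) N) ≫
      Coh.smulAb (CohB1.tensorMod N L) (Coh.toGlobal (X ↘ Spec (CommRingCat.of k)) c) := by
  ext U y
  show tm N L y (res L (le_top (a := U.unop)) (sec L (c • a))) = _
  rw [sec_smul, res_smul, Amp73.tm_smul_right]
  rfl

/-- Multiplication by global sections, on cohomology. -/
def mulH (L N : X.Modules) (n : ℕ) :
    Coh.HH X L 0 →ₗ[k] (Coh.HH X N n →ₗ[k] Coh.HH X (CohB1.tensorMod N L) n) where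
  toFun a := hmap k (tmRight (sec L a) N) n
  map_add' a b := LinearMap.ext fun z => by
    refine ext_comp_add' z ?_
    rw [map_add]
    exact toAb_tmRight_add _ _ N
  map_smul' c a := LinearMap.ext fun z => by
    refine (congrArg (fun e => Ext.comp z (Ext.mk₀ e) (add_zero n)) (toAb_tmRight_smul k c a N)).trans ?_
    exact (ext_comp_comp z _ _).symm.trans (smul_eq_comp k _ n c _).symm

theorem tmRight_shortExact [IsIntegral X] {L N : X.Modules} (hL : PicF.IsInvertible L)
    (hN : PicF.IsInvertible N) {t : Γ(L, ⊤)} (ht : t ≠ 0) :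
    (ShortComplex.mk (tmRight t N) (cokernel.π (tmRight t N)) (cokernel.condition _)).ShortExact :=
  { exact := ShortComplex.exact_of_g_is_cokernel _ (cokernelIsCokernel _)
    mono_f := mono_tmRight hL hN ht
    epi_g := inferInstanceAs (Epi (cokernel.π _)) }

/-- Multiplication by a nonzero section is onto on `H¹`. -/
theorem surjective_hmap_tmRight [IsIntegral X] [IsNoetherian X] (hdim : topologicalKrullDim X ≤ 1)
    {L N : X.Modules} (hL : PicF.IsInvertible L) (hN : PicF.IsInvertible N) {t : Γ(L, ⊤)} (ht : t ≠ 0) :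
    Function.Surjective (hmap k (tmRight t N) 1) := fun w => by
  have hc := QC70.isCoh_cokernel (tmRight t N) (isCoh_of_isInvertible hN).1
    (isCoh_of_isInvertible (EGA73.isInvertible_tensorMod hN hL))
  obtain ⟨S, hS, hcl, hsupp⟩ := exists_suppIn hdim hc (QC70.subsingleton_stalk_cokernel _ _
    (bijective_tmRight t N (bijective_germ_of_mem_genLocus t (genericPoint_mem_genLocus hL ht))).2)
  haveI := hsupp.subsingleton_HH hS hcl 0
  exact (exact_f_g k (tmRight_shortExact hL hN ht) 1 w).1 (Subsingleton.elim _ _)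

/-- Over an infinite field a generated invertible module has a pencil without base points. -/
theorem exists_bpf_pencil [Infinite k] [IsIntegral X] [IsProper (X ↘ Spec (CommRingCat.of k))]
    (hdim : topologicalKrullDim X ≤ 1) {L : X.Modules} (hL : PicF.IsInvertible L)
    (hgg : Curv2.IsGloballyGenerated L) {a : Coh.HH X L 0} (ha : a ≠ 0) :
    ∃ b : Coh.HH X L 0, ∀ x : X,
      Function.Bijective (fun c : X.presheaf.stalk x => c • QC70.germM L ⊤ x trivial (sec L a)) ∨
      Function.Bijective (fun c : X.presheaf.stalk x => c • QC70.germM L ⊤ x trivial (sec L b)) := by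
  classical
  haveI := isNoetherian_of_proper k X
  have hX := curveCoh_of_proper k X hdim
  haveI := hX.finite L (isCoh_of_isInvertible hL) 0
  let Z : Set X := (CohB1.genLocus L (Var76.Frames.ofSection L (sec L a)) : Set X)ᶜ
  have hη : genericPoint X ∈ CohB1.genLocus L (Var76.Frames.ofSection L (sec L a)) :=
    genericPoint_mem_genLocus hL fun h => ha ((sec L).injective (h.trans (map_zero _).symm))
  have hZ : Z.Finite := finite_of_isClosed' hdim (CohB1.genLocus L _).2.isClosed_compl fun h => h hη
  have hcl : ∀ x : Z, IsClosed ({x.1} : Set X) := fun x =>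
    isClosed_singleton hdim fun h => x.2 (h ▸ hη)
  haveI := hZ.to_subtype
  let p : Z → Submodule k (Coh.HH X L 0) := fun x => LinearMap.ker (hmap k (valueAt (ptIdeal (hcl x)) L) 0)
  have hp : ∀ x, p x ≠ ⊤ := fun x htop => by
    obtain ⟨t, ht⟩ := exists_gen_of_isGloballyGenerated hL hgg (hcl x)
    refine ((CurveCoh.valueAt_hmap_eq_zero (k := k) (hcl x) hL ((sec L).symm t)).1 ?_) (by rwa [AddEquiv.apply_symm_apply])
    exact htop.ge Submodule.mem_top
  obtain ⟨b, hb⟩ := Submodule.exists_forall_notMem_of_forall_ne_top (K := k) p hp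
  refine ⟨b, fun x => ?_⟩
  by_cases hx : x ∈ Z
  · refine Or.inr (bijective_germ_of_mem_genLocus _ ?_)
    by_contra hcon
    exact hb ⟨x, hx⟩ ((CurveCoh.valueAt_hmap_eq_zero (k := k) (hcl ⟨x, hx⟩) hL b).2 hcon)
  · exact Or.inl (bijective_germ_of_mem_genLocus _ (not_not.1 hx))

end Groth.Agent.Curves2.Pencil
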